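import Mathlib
import Groth.Agent.Lib.Lead.CritFib20
import Groth.Agent.Lib.Lead.FlatLoc13
import Groth.Agent.Lib.Lead.FB2

/-!
# Flatness / smoothness of a proper morphism after base change to an adic completion (helper7)

For a henselian (in fact arbitrary) discrete valuation ring `V`, a smooth `V`-algebra `A`, the ideal
`I = 𝔪A`, and a proper `h : X ⟶ Spec A`: `X` is flat over `V` and the reduction `h₀` of `h` modulo `I`
is flat (resp. smooth) iff the base change of `h` to the `I`-adic completion of `A` is flat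
(resp. smooth).
-/

set_option linter.style.haveILetI false
set_option linter.unusedVariables false
set_option linter.unusedSectionVars false
set_option autoImplicit false
set_option backward.isDefEq.respectTransparency.types false
set_option synthInstance.maxHeartbeats 400000
set_option maxHeartbeats 1600000

universe u

open AlgebraicGeometry CategoryTheory CategoryTheory.Limits TopologicalSpace

namespace Groth.Agent.Helper7.AdicProp

/-- base change along a factorisation of the base morphism -/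
theorem of_isPullback_of_factor (P : MorphismProperty Scheme.{u}) [P.IsStableUnderBaseChange]
    {X Y W Q Y' : Scheme.{u}} {f : X ⟶ Y} {a' : W ⟶ Y} {p₁ : Q ⟶ X} {p₂ : Q ⟶ W}
    (sq : IsPullback p₁ p₂ f a') (a : Y' ⟶ Y) (b : W ⟶ Y') (hb : b ≫ a = a')
    (hP : P (pullback.snd f a)) : P p₂ := by
  subst hb
  exact MorphismProperty.of_isPullback (P := P)
    (IsPullback.of_right' sq (IsPullback.of_hasPullback f a)) hP

/-- the stalk of `Spec R` at a point whose prime is zero is a field -/
theorem isField_stalk_of_asIdeal_eq_bot (R : Type u) [CommRing R]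
    (s : ↥(Spec (CommRingCat.of R))) (hs : s.asIdeal = ⊥) :
    IsField ((Spec (CommRingCat.of R)).presheaf.stalk s) := by
  have hf : IsField (Localization.AtPrime s.asIdeal) := by
    have hm := IsLocalization.AtPrime.map_eq_maximalIdeal s.asIdeal (Localization.AtPrime s.asIdeal)
    rw [IsLocalRing.isField_iff_maximalIdeal_eq, eq_bot_iff, ← hm]
    exact (Ideal.map_mono hs.le).trans (le_of_eq Ideal.map_bot)
  exact MulEquiv.isField hf
    (Spec.stalkIso (CommRingCat.of R) s).commRingCatIsoToRingEquiv.toMulEquiv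

section Closed

variable {A : Type u} [CommRing A] (I : Ideal A)

/-- no point of the base change to the completion lies over a closed set whose image misses `V(I)` -/
theorem fst_notMem_of_disjoint (hfg : I.FG) {X : Scheme.{u}} (h : X ⟶ Spec (CommRingCat.of A))
    [UniversallyClosed h] (Z : Set X) (hZ : IsClosed Z)
    (hdisj : ∀ z ∈ Z, ¬ I ≤ (h z).asIdeal)
    (x' : ↥(pullback h (Spec.map (CommRingCat.ofHom (algebraMap A (AdicCompletion I A)))))) :
    pullback.fst h (Spec.map (CommRingCat.ofHom (algebraMap A (AdicCompletion I A)))) x' ∉ Z := by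
  intro hx
  obtain ⟨c, hc⟩ : ∃ c : Spec (CommRingCat.of (AdicCompletion I A)) ⟶ Spec (CommRingCat.of A),
      c = Spec.map (CommRingCat.ofHom (algebraMap A (AdicCompletion I A))) := ⟨_, rfl⟩
  have hcl := h.isClosedMap Z hZ
  obtain ⟨J, hJ⟩ := (PrimeSpectrum.isClosed_iff_zeroLocus_ideal _).mp hcl
  have hJI : J ⊔ I = ⊤ := by
    by_contra hne
    obtain ⟨M, hM, hle⟩ := Ideal.exists_le_maximal _ hne
    have hmem : (⟨M, hM.isPrime⟩ : PrimeSpectrum A) ∈ PrimeSpectrum.zeroLocus (J : Set A) :=
      fun a ha => hle (Ideal.mem_sup_left ha)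
    rw [← hJ] at hmem
    obtain ⟨z, hz, hzM⟩ := hmem
    refine hdisj z hz ?_
    rw [hzM]
    exact le_sup_right.trans hle
  have hy : h (pullback.fst h (Spec.map (CommRingCat.ofHom (algebraMap A (AdicCompletion I A)))) x') =
      (Spec.map (CommRingCat.ofHom (algebraMap A (AdicCompletion I A))))
        (pullback.snd h (Spec.map (CommRingCat.ofHom (algebraMap A (AdicCompletion I A)))) x') := by
    rw [← Scheme.Hom.comp_apply, ← Scheme.Hom.comp_apply, pullback.condition]
  have hmem : (Spec.map (CommRingCat.ofHom (algebraMap A (AdicCompletion I A))))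
        (pullback.snd h (Spec.map (CommRingCat.ofHom (algebraMap A (AdicCompletion I A)))) x') ∈
      PrimeSpectrum.zeroLocus (J : Set A) := by
    rw [← hJ, ← hy]
    exact ⟨_, hx, rfl⟩
  obtain ⟨j, hj, i, hi, hji⟩ := Submodule.mem_sup.mp ((Ideal.eq_top_iff_one _).mp hJI)
  have hjy : algebraMap A (AdicCompletion I A) j ∈
      (pullback.snd h (Spec.map (CommRingCat.ofHom (algebraMap A (AdicCompletion I A)))) x').asIdeal :=
    hmem hj
  have hjac : algebraMap A (AdicCompletion I A) i ∈ (⊥ : Ideal (AdicCompletion I A)).jacobson := by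
    haveI := AdicCompletion.isAdicComplete_self I hfg
    exact IsAdicComplete.le_jacobson_bot (I.map (algebraMap A (AdicCompletion I A)))
      (Ideal.mem_map_of_mem _ hi)
  have hunit : IsUnit (algebraMap A (AdicCompletion I A) j) := by
    have h0 : algebraMap A (AdicCompletion I A) j + algebraMap A (AdicCompletion I A) i = 1 := by
      rw [← map_add, hji, map_one]
    have h1 : algebraMap A (AdicCompletion I A) j = algebraMap A (AdicCompletion I A) i * (-1) + 1 := by
      linear_combination h0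
    rw [h1]
    exact (Ideal.mem_jacobson_bot.mp hjac) (-1)
  exact (pullback.snd h (Spec.map (CommRingCat.ofHom (algebraMap A (AdicCompletion I A)))) x').isPrime.ne_top
    (Ideal.eq_top_of_isUnit_mem _ hjy hunit)

end Closed

section Fiber

variable {V A : Type u} [CommRing V] [CommRing A] [Algebra V A]

/-- the fibre of `Spec A ⟶ Spec V` over a point `s` containing `𝔫` maps to `Spec (A/𝔫A)` over `Spec A` -/
theorem exists_fiber_to_quot (𝔫 : Ideal V) (s : ↥(Spec (CommRingCat.of V))) (hs : 𝔫 ≤ s.asIdeal) :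
    ∃ t : (Spec.map (CommRingCat.ofHom (algebraMap V A))).fiber s ⟶
        Spec (CommRingCat.of (A ⧸ 𝔫.map (algebraMap V A))),
      t ≫ Spec.map (CommRingCat.ofHom (Ideal.Quotient.mk (𝔫.map (algebraMap V A)))) =
        (Spec.map (CommRingCat.ofHom (algebraMap V A))).fiberι s := by
  obtain ⟨g, hg⟩ : ∃ g : Spec (CommRingCat.of A) ⟶ Spec (CommRingCat.of V),
      g = Spec.map (CommRingCat.ofHom (algebraMap V A)) := ⟨_, rfl⟩
  rw [← hg]
  let Ψ : CommRingCat.of A ⟶ Γ(g.fiber s, ⊤) :=
    (Scheme.ΓSpecIso (CommRingCat.of A)).inv ≫ (g.fiberι s).appTop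
  have hιΨ : g.fiberι s = (g.fiber s).toSpecΓ ≫ Spec.map Ψ := by
    rw [Spec.map_comp, ← Scheme.toSpecΓ_naturality_assoc, toSpecΓ_SpecMap_ΓSpecIso_inv,
      Category.comp_id]
  let W : CommRingCat.of s.asIdeal.ResidueField ⟶ Γ(g.fiber s, ⊤) :=
    (Scheme.ΓSpecIso (CommRingCat.of s.asIdeal.ResidueField)).inv ≫
      (Spec.map (Scheme.Spec.residueFieldIso (CommRingCat.of V) s).inv).appTop ≫
      (g.fiberToSpecResidueField s).appTop
  have e1 : CommRingCat.ofHom (algebraMap V A) ≫ Ψ =
      CommRingCat.ofHom (algebraMap V s.asIdeal.ResidueField) ≫ W := by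
    have h1 : CommRingCat.ofHom (algebraMap V A) ≫ Ψ =
        (Scheme.ΓSpecIso (CommRingCat.of V)).inv ≫ (g.fiberι s ≫ g).appTop := by
      simp only [Ψ]
      rw [Scheme.Hom.comp_appTop, Scheme.ΓSpecIso_inv_naturality_assoc, hg]
    rw [h1, g.fiber_fac s, ← Scheme.Spec.map_residueFieldIso_inv_eq_fromSpecResidueField]
    simp only [Scheme.Hom.comp_appTop, Category.assoc, W]
    rw [Scheme.ΓSpecIso_inv_naturality_assoc]
  have hkill : 𝔫.map (algebraMap V A) ≤ RingHom.ker Ψ.hom := by
    rw [Ideal.map_le_iff_le_comap]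
    intro v hv
    rw [Ideal.mem_comap, RingHom.mem_ker]
    have h0 : algebraMap V s.asIdeal.ResidueField v = 0 :=
      Ideal.algebraMap_residueField_eq_zero.mpr (hs hv)
    have h2 := congrArg (fun F => F.hom v) e1
    simp only [CommRingCat.hom_comp, CommRingCat.hom_ofHom, RingHom.comp_apply] at h2
    rw [h2, h0, map_zero]
  refine ⟨(g.fiber s).toSpecΓ ≫ Spec.map (CommRingCat.ofHom
    (Ideal.Quotient.lift (𝔫.map (algebraMap V A)) Ψ.hom (fun a ha => hkill ha))), ?_⟩
  rw [Category.assoc, ← Spec.map_comp, hιΨ]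
  congr 2

end Fiber

section Main

variable (V : Type u) [CommRing V] [IsDomain V] [IsDiscreteValuationRing V]
  (A : Type u) [CommRing A] [Algebra V A] [Algebra.Smooth V A]

/-- the ideal `𝔪A` -/
abbrev II : Ideal A := (IsLocalRing.maximalIdeal V).map (algebraMap V A)

/-- `Spec A ⟶ Spec V` -/
noncomputable abbrev gg : Spec (CommRingCat.of A) ⟶ Spec (CommRingCat.of V) :=
  Spec.map (CommRingCat.ofHom (algebraMap V A))

/-- `Spec (A/𝔪A) ⟶ Spec A` -/
noncomputable abbrev q0 : Spec (CommRingCat.of (A ⧸ II V A)) ⟶ Spec (CommRingCat.of A) :=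
  Spec.map (CommRingCat.ofHom (Ideal.Quotient.mk (II V A)))

/-- `Spec Â ⟶ Spec A` -/
noncomputable abbrev cc : Spec (CommRingCat.of (AdicCompletion (II V A) A)) ⟶ Spec (CommRingCat.of A) :=
  Spec.map (CommRingCat.ofHom (algebraMap A (AdicCompletion (II V A) A)))

/-- `Spec (A/𝔪A) ⟶ Spec Â` -/
noncomputable abbrev ee : Spec (CommRingCat.of (A ⧸ II V A)) ⟶ Spec (CommRingCat.of (AdicCompletion (II V A) A)) :=
  Spec.map (CommRingCat.ofHom (AdicCompletion.evalOneₐ (II V A)).toRingHom)

theorem ee_cc : ee V A ≫ cc V A = q0 V A := by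
  rw [← Spec.map_comp, ← CommRingCat.ofHom_comp, AdicCompletion.evalOneₐ_comp_algebraMap_eq_mk]

theorem noeth (V : Type u) [CommRing V] [IsDomain V] [IsDiscreteValuationRing V]
    (A : Type u) [CommRing A] [Algebra V A] [Algebra.Smooth V A] : IsNoetherianRing A := by
  haveI : Algebra.FinitePresentation V A := Algebra.Smooth.finitePresentation
  exact Algebra.FiniteType.isNoetherianRing V A

theorem lfp_gg : LocallyOfFinitePresentation (gg V A) := by
  haveI : Algebra.FinitePresentation V A := Algebra.Smooth.finitePresentation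
  rw [LocallyOfFinitePresentation.SpecMap_iff]
  exact RingHom.finitePresentation_algebraMap.mpr inferInstance

theorem flat_gg : Flat (gg V A) := by
  rw [Flat.SpecMap_iff]
  exact RingHom.flat_algebraMap_iff.mpr inferInstance

theorem flat_cc : Flat (cc V A) := by
  haveI := noeth V A
  rw [Flat.SpecMap_iff]
  exact RingHom.flat_algebraMap_iff.mpr inferInstance

theorem maximalIdeal_le_of_le (y : ↥(Spec (CommRingCat.of A))) (hy : II V A ≤ y.asIdeal) :
    IsLocalRing.maximalIdeal V ≤ ((gg V A) y).asIdeal := by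
  intro v hv
  show algebraMap V A v ∈ y.asIdeal
  exact hy (Ideal.mem_map_of_mem _ hv)

theorem le_of_asIdeal_eq (y : ↥(Spec (CommRingCat.of A)))
    (hy : ((gg V A) y).asIdeal = IsLocalRing.maximalIdeal V) : II V A ≤ y.asIdeal := by
  rw [Ideal.map_le_iff_le_comap]
  intro v hv
  have h1 : v ∈ ((gg V A) y).asIdeal := hy ▸ hv
  exact h1

variable {X : Scheme.{u}} (h : X ⟶ Spec (CommRingCat.of A))

theorem fiberMap_of_snd (P : MorphismProperty Scheme.{u}) [P.IsStableUnderBaseChange]
    (hP : P (pullback.snd h (q0 V A))) (s : ↥(Spec (CommRingCat.of V)))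
    (hs : IsLocalRing.maximalIdeal V ≤ s.asIdeal) :
    P (MoreMor.fiberMap h (gg V A) s) := by
  obtain ⟨t, ht⟩ := exists_fiber_to_quot (A := A) (IsLocalRing.maximalIdeal V) s hs
  exact of_isPullback_of_factor P (Groth.Agent.Lead.CritFib.isPullback_fiberMap h (gg V A) s)
    (q0 V A) t ht hP

theorem snd_q0_of_snd_cc (P : MorphismProperty Scheme.{u}) [P.IsStableUnderBaseChange]
    (hP : P (pullback.snd h (cc V A))) : P (pullback.snd h (q0 V A)) :=
  of_isPullback_of_factor P (IsPullback.of_hasPullback h (q0 V A)) (cc V A) (ee V A) (ee_cc V A) hP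

variable [IsProper h]

theorem flat_stalkMap_of_le [Flat (h ≫ gg V A)] [Flat (pullback.snd h (q0 V A))] (z : X)
    (hz : II V A ≤ (h z).asIdeal) : (h.stalkMap z).hom.Flat := by
  haveI := noeth V A
  haveI := lfp_gg V A
  haveI : Flat (MoreMor.fiberMap h (gg V A) ((gg V A) (h z))) :=
    fiberMap_of_snd V A h @Flat inferInstance _ (maximalIdeal_le_of_le V A (h z) hz)
  exact ((Groth.Agent.Lead.CritFib.critere_fibre h (gg V A) z).mp
    ⟨Flat.stalkMap (h ≫ gg V A) z,
      Flat.stalkMap (MoreMor.fiberMap h (gg V A) ((gg V A) (h z))) _⟩).2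

theorem mem_smoothLocus_of_le [LocallyOfFinitePresentation h] [Flat (h ≫ gg V A)]
    [Smooth (pullback.snd h (q0 V A))] (z : X)
    (hz : II V A ≤ (h z).asIdeal) : z ∈ h.smoothLocus := by
  haveI := noeth V A
  haveI := lfp_gg V A
  have hs := maximalIdeal_le_of_le V A (h z) hz
  haveI : Smooth (MoreMor.fiberMap h (gg V A) ((gg V A) (h z))) :=
    fiberMap_of_snd V A h @Smooth inferInstance _ hs
  have hx' : (h ≫ gg V A).asFiber z ∈
      (MoreMor.fiberMap h (gg V A) ((gg V A) (h z))).smoothLocus := by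
    rw [Scheme.Hom.smoothLocus_eq_top_iff.mpr inferInstance]
    trivial
  have h1 := (Groth.Agent.Lead.CritFib.mem_smoothLocus_fiberMap_iff h (gg V A) ((gg V A) (h z))
    ((h ≫ gg V A).asFiber z) (Flat.stalkMap _ _)).mp hx'
  have e : (Scheme.Hom.fiberι (h ≫ gg V A) ((gg V A) (h z))) (Scheme.Hom.asFiber (h ≫ gg V A) z) = z :=
    (h ≫ gg V A).fiberι_asFiber z
  rwa [e] at h1

theorem flat_snd_cc [Flat (h ≫ gg V A)] [Flat (pullback.snd h (q0 V A))] :
    Flat (pullback.snd h (cc V A)) := by
  haveI := noeth V A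
  rw [Flat.iff_flat_stalkMap]
  intro x'
  have hopen := Groth.Agent.Lead.FlatLoc.isOpen_flatLocus_of_locallyOfFinitePresentation h
  have hmem : pullback.fst h (cc V A) x' ∉ {x : X | (h.stalkMap x).hom.Flat}ᶜ :=
    fst_notMem_of_disjoint (II V A) ((isNoetherianRing_iff_ideal_fg A).mp inferInstance _) h _
      hopen.isClosed_compl (fun z hz hle => hz (flat_stalkMap_of_le V A h z hle)) x'
  have hfl : (h.stalkMap (pullback.fst h (cc V A) x')).hom.Flat := by
    by_contra hc
    exact hmem hc
  exact Groth.Agent.Lead.FB.flat_stalkMap_baseChange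
    (IsPullback.of_hasPullback h (cc V A)).flip x' hfl

theorem smooth_snd_cc [Flat (h ≫ gg V A)] [Smooth (pullback.snd h (q0 V A))] :
    Smooth (pullback.snd h (cc V A)) := by
  haveI := noeth V A
  haveI : LocallyOfFinitePresentation h := inferInstance
  rw [← Scheme.Hom.smoothLocus_eq_top_iff, eq_top_iff]
  intro x' _
  have hmem : pullback.fst h (cc V A) x' ∉ ((h.smoothLocus : Set X))ᶜ :=
    fst_notMem_of_disjoint (II V A) ((isNoetherianRing_iff_ideal_fg A).mp inferInstance _) h _
      h.smoothLocus.isOpen.isClosed_compl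
      (fun z hz hle => hz (mem_smoothLocus_of_le V A h z hle)) x'
  have hsm : pullback.fst h (cc V A) x' ∈ h.smoothLocus := by
    by_contra hc
    exact hmem hc
  exact Groth.Agent.Lib.Helper6.EtLoc.mem_smoothLocus_of_isPullback h (cc V A)
    (pullback.snd h (cc V A)) (pullback.fst h (cc V A)) (IsPullback.of_hasPullback h (cc V A)) x' hsm

theorem flat_comp_of_flat_snd_cc [Flat (pullback.snd h (cc V A))] : Flat (h ≫ gg V A) := by
  haveI := noeth V A
  haveI := flat_gg V A
  haveI := flat_cc V A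
  rw [Flat.iff_flat_stalkMap]
  intro x
  by_cases hs : ((gg V A) (h x)).asIdeal = ⊥
  · exact RingHom.Flat.of_isField (isField_stalk_of_asIdeal_eq_bot V ((gg V A) (h x)) hs) _
  · have hmax : ((gg V A) (h x)).asIdeal = IsLocalRing.maximalIdeal V := by
      haveI := ((gg V A) (h x)).isPrime
      exact IsLocalRing.eq_maximalIdeal (IsPrime.to_maximal_ideal hs)
    have hle := le_of_asIdeal_eq V A (h x) hmax
    obtain ⟨y₀, hy₀⟩ : ∃ y₀ : ↥(Spec (CommRingCat.of (A ⧸ II V A))), (q0 V A) y₀ = h x := by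
      have hr : h x ∈ Set.range (PrimeSpectrum.comap (Ideal.Quotient.mk (II V A))) := by
        rw [range_comap_of_surjective _ _ Ideal.Quotient.mk_surjective, Ideal.mk_ker]
        exact hle
      obtain ⟨y₀, hy₀⟩ := hr
      exact ⟨y₀, hy₀⟩
    have hpt : h x = (cc V A) ((ee V A) y₀) := by
      rw [← Scheme.Hom.comp_apply, ee_cc, hy₀]
    obtain ⟨x', hx1, hx2⟩ := Scheme.Pullback.exists_preimage_pullback x ((ee V A) y₀) hpt
    have h1 : ((pullback.fst h (cc V A) ≫ h).stalkMap x').hom.Flat := by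
      rw [pullback.condition]
      exact Groth.Agent.Lead.CritFib.flat_stalkMap_comp _ _ x' (Flat.stalkMap _ _)
        (Flat.stalkMap _ _)
    have h2 := Groth.Agent.Lead.CritFib.flat_stalkMap_base_of_flat (pullback.fst h (cc V A)) h x' h1
      (Flat.stalkMap _ _)
    have h3 : (h.stalkMap x).hom.Flat :=
      (Groth.Agent.Lead.CritFib.flat_stalkMap_iff_of_eq h hx1).mp h2
    exact Groth.Agent.Lead.CritFib.flat_stalkMap_comp h (gg V A) x (Flat.stalkMap _ _) h3

/-- flat version -/
theorem main_flat :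
    (Flat (h ≫ gg V A) ∧ Flat (pullback.snd h (q0 V A))) ↔ Flat (pullback.snd h (cc V A)) := by
  constructor
  · rintro ⟨h1, h2⟩
    exact flat_snd_cc V A h
  · intro h1
    exact ⟨flat_comp_of_flat_snd_cc V A h, snd_q0_of_snd_cc V A h @Flat h1⟩

/-- smooth version -/
theorem main_smooth :
    (Flat (h ≫ gg V A) ∧ Smooth (pullback.snd h (q0 V A))) ↔ Smooth (pullback.snd h (cc V A)) := by
  constructor
  · rintro ⟨h1, h2⟩
    exact smooth_snd_cc V A h
  · intro h1
    haveI : Flat (pullback.snd h (cc V A)) := inferInstance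
    exact ⟨flat_comp_of_flat_snd_cc V A h, snd_q0_of_snd_cc V A h @Smooth h1⟩

end Main

end Groth.Agent.Helper7.AdicProp
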